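import Groth.Prelude.Def_DEt2
import Mathlib.AlgebraicGeometry.Morphisms.Immersion
import Mathlib.AlgebraicGeometry.Morphisms.Proper
import Mathlib.AlgebraicGeometry.Morphisms.QuasiSeparated

/-!
# Compactifications form a cofiltering category
-/

universe u

open AlgebraicGeometry CategoryTheory Limits

namespace Groth.Agent.Compactif

variable {X Y : Scheme.{u}} [CompactSpace ↥X] [QuasiSeparatedSpace ↥Y] {f : X ⟶ Y}

/-- A morphism from `X` into a `Y`-proper scheme, immersive, yields a compactification mapping to it. -/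
theorem exists_compactification {P : Scheme.{u}} (π : P ⟶ Y) [IsProper π] (k : X ⟶ P) [IsImmersion k]
    (h : k ≫ π = f) : ∃ (c : DEt.Compactification f) (i : c.Xbar ⟶ P),
      IsClosedImmersion i ∧ c.j ≫ i = k ∧ i ≫ π = c.fbar := by
  have : QuasiSeparatedSpace P := quasiSeparatedSpace_of_quasiSeparated π
  have : QuasiCompact k := inferInstance
  exact ⟨⟨k.image, k.toImage, k.imageι ≫ π, inferInstance, inferInstance,
    by rw [← Category.assoc, k.toImage_imageι, h]⟩, k.imageι, inferInstance, k.toImage_imageι, rfl⟩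

theorem exists_dominating (c₁ c₂ : DEt.Compactification f) :
    ∃ (c : DEt.Compactification f) (p₁ : c.Xbar ⟶ c₁.Xbar) (p₂ : c.Xbar ⟶ c₂.Xbar),
      IsProper p₁ ∧ IsProper p₂ ∧ c.j ≫ p₁ = c₁.j ∧ c.j ≫ p₂ = c₂.j ∧
        p₁ ≫ c₁.fbar = c.fbar ∧ p₂ ≫ c₂.fbar = c.fbar := by
  let k : X ⟶ pullback c₁.fbar c₂.fbar := pullback.lift c₁.j c₂.j (c₁.fac.trans c₂.fac.symm)
  have hk1 : k ≫ pullback.fst c₁.fbar c₂.fbar = c₁.j := pullback.lift_fst _ _ _
  have hk2 : k ≫ pullback.snd c₁.fbar c₂.fbar = c₂.j := pullback.lift_snd _ _ _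
  have : IsImmersion (k ≫ pullback.fst c₁.fbar c₂.fbar) := by rw [hk1]; infer_instance
  have : IsImmersion k := IsImmersion.of_comp k (pullback.fst c₁.fbar c₂.fbar)
  have hp1 : IsProper (pullback.fst c₁.fbar c₂.fbar) :=
    MorphismProperty.of_isPullback (P := @IsProper) (IsPullback.of_hasPullback c₁.fbar c₂.fbar).flip c₂.isProper
  have hp2 : IsProper (pullback.snd c₁.fbar c₂.fbar) :=
    MorphismProperty.of_isPullback (P := @IsProper) (IsPullback.of_hasPullback c₁.fbar c₂.fbar) c₁.isProper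
  obtain ⟨c, i, hi, hji, hif⟩ := exists_compactification (pullback.fst c₁.fbar c₂.fbar ≫ c₁.fbar) k
    (by rw [← Category.assoc, hk1, c₁.fac])
  refine ⟨c, i ≫ pullback.fst _ _, i ≫ pullback.snd _ _, inferInstance, inferInstance, ?_, ?_, ?_, ?_⟩
  · rw [← Category.assoc, hji, hk1]
  · rw [← Category.assoc, hji, hk2]
  · rw [Category.assoc, hif]
  · rw [Category.assoc, ← pullback.condition, hif]

theorem exists_equalizing (c₁ c₂ : DEt.Compactification f) (r s : c₁.Xbar ⟶ c₂.Xbar)
    (hr : c₁.j ≫ r = c₂.j) (hs : c₁.j ≫ s = c₂.j) (hr' : r ≫ c₂.fbar = c₁.fbar)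
    (hs' : s ≫ c₂.fbar = c₁.fbar) :
    ∃ (c : DEt.Compactification f) (t : c.Xbar ⟶ c₁.Xbar),
      IsProper t ∧ c.j ≫ t = c₁.j ∧ t ≫ c₁.fbar = c.fbar ∧ t ≫ r = t ≫ s := by
  let L : c₁.Xbar ⟶ pullback c₂.fbar c₂.fbar := pullback.lift r s (hr'.trans hs'.symm)
  let e : pullback L (pullback.diagonal c₂.fbar) ⟶ c₁.Xbar := pullback.fst _ _
  have he : IsClosedImmersion e :=
    MorphismProperty.of_isPullback (P := @IsClosedImmersion)
      (IsPullback.of_hasPullback L (pullback.diagonal c₂.fbar)).flip inferInstance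
  have heq : e ≫ r = e ≫ s := by
    have h1 := congrArg (· ≫ pullback.fst c₂.fbar c₂.fbar) (pullback.condition (f := L) (g := pullback.diagonal c₂.fbar))
    have h2 := congrArg (· ≫ pullback.snd c₂.fbar c₂.fbar) (pullback.condition (f := L) (g := pullback.diagonal c₂.fbar))
    simp only [Category.assoc, L, pullback.lift_fst, pullback.lift_snd, pullback.diagonal_fst,
      pullback.diagonal_snd, Category.comp_id] at h1 h2
    exact h1.trans h2.symm
  let k : X ⟶ pullback L (pullback.diagonal c₂.fbar) := pullback.lift c₁.j c₂.j (by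
    ext <;> simp [L, hr, hs, pullback.lift_fst, pullback.lift_snd])
  have hk : k ≫ e = c₁.j := pullback.lift_fst _ _ _
  have : IsImmersion (k ≫ e) := by rw [hk]; infer_instance
  have : IsImmersion k := IsImmersion.of_comp k e
  obtain ⟨c, i, hi, hji, hif⟩ := exists_compactification (e ≫ c₁.fbar) k (by rw [← Category.assoc, hk, c₁.fac])
  refine ⟨c, i ≫ e, inferInstance, by rw [← Category.assoc, hji, hk], by rw [Category.assoc, hif], ?_⟩
  rw [Category.assoc, Category.assoc, heq]

end Groth.Agent.Compactif
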